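import Mathlib

set_option autoImplicit false

/-!
# Four points of a Hall triple system

Let `D` be a set of involutions of a group, closed under conjugation by its members, in which
`p q p = q p q` for all members.  For `a b c e ∈ D` the element `(a b c e)^3` commutes with `a`.
The proof is a small verified enumeration (a part of the 81 points generated by four points).
-/

namespace Cfsg.Agent.Lib.Helper89.W1

def tblData : List ℕ := [0, 4, 5, 6, 4, 1, 7, 8, 5, 7, 2, 9, 6, 8, 9, 3, 1, 0, 10, 11, 2, 12, 0, 13, 3, 14, 15, 0, 16, 2, 1, 17, 18, 3, 19, 1, 20, 21, 3, 2, 12, 16, 4, 22, 14, 18, 23, 4, 10, 5, 16, 24, 15, 25, 20, 5, 11, 6, 26, 18, 13, 27, 6, 20, 7, 10, 12, 28, 29, 19, 21, 7, 8, 11, 30, 14, 31, 17, 8, 21, 9, 32, 13, 15, 33, 9, 17, 19, 34, 35, 36, 10, 37, 38, 11, 36, 39, 40, 41, 12, 42, 13, 43, 40, 44, 45, 14, 46, 47, 15, 45, 48, 45, 49, 50, 16, 17, 51, 52, 45, 40, 53, 18, 54, 19, 55, 40, 56, 36, 20, 57, 58, 21, 36,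 59, 60, 22, 37, 61, 39, 38, 22, 62, 49, 32, 33, 22, 23, 23, 34, 44, 63, 35, 23, 53, 64, 24, 65, 42, 34, 30, 24, 31, 25, 43, 66, 24, 50, 25, 47, 39, 67, 41, 57, 25, 68, 26, 69, 37, 47, 28, 26, 27, 29, 48, 70, 54, 26, 27, 42, 71, 44, 46, 58, 72, 27, 69, 28, 51, 35, 71, 52, 28, 41, 55, 29, 49, 70, 59, 50, 29, 72, 65, 30, 38, 55, 67, 56, 46, 30, 51, 31, 66, 53, 60, 54, 68, 31, 61, 43, 32, 59, 63, 48, 60, 32, 52, 62, 33, 57, 56, 64, 58, 33, 57, 73, 34, 74, 75, 59, 35, 76, 58, 77, 78, 37, 79, 60, 80, 38, 53, 39, 75, 77, 73, 41, 55, 80, 54, 79, 74, 42, 78, 76, 56, 43, 49, 44, 73, 79, 77, 46, 76, 51, 50, 75, 47, 78, 74, 80, 48, 52, 66, 61, 69, 75, 72, 78, 67, 61, 62, 71, 65, 73, 80, 68, 70, 62, 70, 63, 79, 65, 68, 74, 63, 71, 64, 67, 77, 69, 76, 72, 64, 66]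

def uData : List (List ℕ) := [[], [], [], [], [1], [2], [3], [2], [3], [3], [2, 1], [3, 1], [1, 2], [3, 2], [1, 3], [2, 3], [0, 2], [3, 2], [0, 3], [2, 3], [0, 3], [1, 3], [3, 2, 1], [2, 3, 1], [3, 1, 2], [1, 3, 2], [2, 1, 3], [1, 2, 3], [3, 0, 2], [0, 3, 2], [2, 0, 3], [0, 2, 3], [1, 0, 3], [0, 1, 3], [0, 3, 2, 1], [1, 3, 2, 1], [2, 3, 2, 1], [0, 2, 3, 1], [1, 2, 3, 1], [0, 3, 1, 2], [1, 3, 1, 2], [2, 3, 1, 2], [0, 1, 3, 2], [2, 1, 3, 2], [0, 2, 1, 3], [1, 2, 1, 3], [3, 2, 1, 3], [0, 1, 2, 3], [3, 1, 2, 3], [1, 3, 0, 2], [2, 3, 0, 2], [1, 0, 3, 2], [2, 0, 3, 2], [1, 2, 0, 3], [3, 2, 0, 3], [1, 0, 2, 3], [3, 0, 2, 3], [2, 1, 0, 3], [3, 1, 0, 3], [2, 0, 1, 3], [3, 0, 1, 3], [2, 0, 3, 2, 1], [2, 1, 3, 2, 1], [3, 0, 2, 3, 1], [3, 1, 2, 3, 1], [1, 0, 3, 1, 2], [1, 2, 3, 1, 2], [3, 0, 1, 3, 2], [3, 2, 1, 3, 2], [1, 0, 2, 1, 3], [1, 3, 2, 1, 3], [2, 0, 1, 2, 3], [2, 3, 1, 2, 3], [1, 2, 0, 3, 2, 1], [3, 2, 0, 3, 2, 1], [0, 2, 1,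 3, 2, 1], [3, 2, 1, 3, 2, 1], [1, 3, 0, 2, 3, 1], [2, 3, 0, 2, 3, 1], [0, 3, 1, 2, 3, 1], [2, 3, 1, 2, 3, 1]]

def rData : List ℕ := [0, 1, 2, 3, 0, 0, 0, 1, 1, 2, 0, 0, 0, 0, 0, 0, 1, 1, 1, 1, 2, 2, 0, 0, 0, 0, 0, 0, 1, 1, 1, 1, 2, 2, 0, 0, 0, 0, 0, 0, 0, 0, 0, 0, 0, 0, 0, 0, 0, 1, 1, 1, 1, 1, 1, 1, 1, 2, 2, 2, 2, 0, 0, 0, 0, 0, 0, 0, 0, 0, 0, 0, 0, 0, 0, 0, 0, 0, 0, 0, 0]

/-- the action table -/
def T (s i : ℕ) : ℕ := tblData.getD (4 * i + s) 0
/-- conjugating word of a point -/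
def U (i : ℕ) : List ℕ := uData.getD i []
/-- root generator of a point -/
def R (i : ℕ) : ℕ := rData.getD i 0
/-- the word of a point -/
def W (i : ℕ) : List ℕ := U i ++ R i :: (U i).reverse

/-- run a word through the table using only the entries of `K` -/
def runK (K : List (ℕ × ℕ)) : List ℕ → ℕ → Option ℕ
  | [], i => some i
  | s :: u, i => (runK K u i).bind fun j => if (s, j) ∈ K then some (T s j) else none

/-- justification steps -/
inductive Step
  | dfn (s p : ℕ)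
  | inv (s i : ℕ)
  | fix (s : ℕ)
  | comm (t pf i k : ℕ) (A B : List ℕ)

/-- the entry proved by a step -/
def Step.entry : Step → ℕ × ℕ
  | .dfn s p => (s, p)
  | .inv s i => (s, i)
  | .fix s => (s, s)
  | .comm t pf _ _ _ _ => (t, pf)

/-- the check of a step -/
def Step.ok (K : List (ℕ × ℕ)) : Step → Bool
  | .dfn s p => decide (U (T s p) = s :: U p ∧ R (T s p) = R p)
  | .inv s i => decide ((s, T s i) ∈ K ∧ T s (T s i) = i)
  | .fix s => decide (U s = [] ∧ R s = s ∧ T s s = s)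
  | .comm t pf i k A B => decide (W k ++ W i = A ++ t :: B ∧ runK K B k = some pf ∧
      runK K A.reverse i = some (T t pf))

/-- check a list of steps -/
def checkAll : List Step → List (ℕ × ℕ) → Option (List (ℕ × ℕ))
  | [], K => some K
  | st :: rest, K => if st.ok K then checkAll rest (st.entry :: K) else none

def steps : List Step := [
  .dfn 3 0,
  .dfn 2 6,
  .dfn 1 15,
  .dfn 0 27,
  .comm 0 3 0 3 [3] [],
  .dfn 3 27,
  .dfn 3 30,
  .dfn 3 2,
  .comm 2 3 2 3 [3] [],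
  .inv 2 9,
  .dfn 3 1,
  .comm 1 3 1 3 [3] [],
  .inv 3 8,
  .dfn 1 0,
  .comm 0 1 0 1 [1] [],
  .dfn 3 4,
  .inv 1 8,
  .dfn 1 6,
  .dfn 0 8,
  .comm 3 18 0 8 [3, 1] [0],
  .inv 3 14,
  .comm 1 11 1 11 [3, 1, 0, 1, 3] [],
  .dfn 2 18,
  .comm 2 46 2 46 [3, 2, 1, 3, 0, 3, 1, 2, 3] [],
  .inv 2 54,
  .dfn 0 9,
  .comm 3 20 0 9 [3, 2] [0],
  .comm 0 46 3 30 [2, 0, 3, 1, 3] [2, 3],
  .inv 0 48,
  .dfn 3 26,
  .inv 3 46,
  .dfn 1 26,
  .dfn 2 1,
  .comm 1 2 1 2 [2] [],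
  .inv 1 7,
  .comm 2 45 1 26 [2, 1, 3, 0, 3, 1] [1],
  .comm 3 44 3 44 [0, 2, 1, 3, 0, 3, 1, 2, 0] [],
  .inv 3 47,
  .dfn 2 0,
  .comm 0 2 0 2 [2] [],
  .inv 2 5,
  .inv 1 18,
  .comm 0 11 1 18 [0, 3, 1, 3] [1],
  .inv 0 14,
  .dfn 2 14,
  .dfn 0 26,
  .comm 2 37 2 37 [0, 2, 3, 1, 0, 1, 3, 2, 0] [],
  .inv 2 44,
  .dfn 1 24,
  .inv 1 40,
  .dfn 0 24,
  .dfn 1 39,
  .inv 1 65,
  .inv 3 6,
  .dfn 1 5,
  .dfn 0 7,
  .comm 2 16 0 7 [2, 1] [0],
  .inv 2 12,
  .comm 1 10 1 10 [2, 1, 0, 1, 2] [],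
  .inv 1 16,
  .dfn 2 4,
  .comm 0 10 1 16 [0, 2, 1, 2] [1],
  .inv 0 12,
  .dfn 3 12,
  .comm 3 34 3 34 [0, 3, 2, 1, 0, 1, 2, 3, 0] [],
  .inv 3 39,
  .inv 1 4,
  .comm 1 34 4 40 [1, 3, 1, 2, 0, 2] [3, 1, 1, 0, 1],
  .inv 1 37,
  .dfn 0 22,
  .inv 0 34,
  .dfn 3 10,
  .inv 3 22,
  .inv 2 10,
  .fix 0]

/-- the final check -/
def finalCheck : Bool :=
  match checkAll steps [] with
  | some K => decide (runK K [0, 1, 2, 3, 0, 1, 2, 3, 0, 1, 2, 3] 0 = some 0)
  | none => false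

theorem finalCheck_eq : finalCheck = true := by decide +kernel

section
variable {G : Type*} [Group G] (g : ℕ → G)

/-- conjugation by a word in the generators -/
def act : List ℕ → G → G
  | [], x => x
  | s :: u, x => g s * act u x * g s

/-- the points -/
def pt (i : ℕ) : G := act g (U i) (g (R i))

/-- validity of a table entry -/
def Valid (e : ℕ × ℕ) : Prop := g e.1 * pt g e.2 * g e.1 = pt g (T e.1 e.2)

theorem act_append (u v : List ℕ) (x : G) : act g (u ++ v) x = act g u (act g v x) := by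
  induction u with
  | nil => rfl
  | cons s u ih => simp only [List.cons_append, act, ih]

variable {g}

theorem act_reverse_act (h2 : ∀ s, g s * g s = 1) (u : List ℕ) (x : G) :
    act g u.reverse (act g u x) = x := by
  induction u generalizing x with
  | nil => rfl
  | cons s u ih =>
    rw [List.reverse_cons, act_append]
    simp only [act]
    have : g s * (g s * act g u x * g s) * g s = act g u x := by
      calc g s * (g s * act g u x * g s) * g s = (g s * g s) * act g u x * (g s * g s) := by group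
        _ = act g u x := by rw [h2, one_mul, mul_one]
    rw [this, ih]

theorem act_mem {D : Set G} (hg : ∀ s, g s ∈ D) (hcl : ∀ p ∈ D, ∀ q ∈ D, p * q * p ∈ D)
    (u : List ℕ) {x : G} (hx : x ∈ D) : act g u x ∈ D := by
  induction u with
  | nil => exact hx
  | cons s u ih => exact hcl _ (hg s) _ ih

theorem conj_act (u : List ℕ) (p x : G) :
    act g u p * x * act g u p = act g u (p * act g u.reverse x * p) := by
  induction u generalizing x with
  | nil => rfl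
  | cons s u ih =>
    rw [List.reverse_cons, act_append]
    simp only [act]
    rw [← ih]
    group

theorem conj_pt (i : ℕ) (x : G) :
    pt g i * x * pt g i = act g (W i) x := by
  rw [pt, conj_act, W, act_append]
  rfl

theorem run_sound {K : List (ℕ × ℕ)} (hK : ∀ e ∈ K, Valid g e) (u : List ℕ) (i j : ℕ)
    (h : runK K u i = some j) : act g u (pt g i) = pt g j := by
  induction u generalizing j with
  | nil =>
    simp only [runK, Option.some.injEq] at h
    rw [← h]; rfl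
  | cons s u ih =>
    simp only [runK] at h
    rcases hr : runK K u i with _ | m
    · rw [hr] at h; simp at h
    · rw [hr] at h
      simp only [Option.bind_some] at h
      split_ifs at h with hm
      simp only [Option.some.injEq] at h
      simp only [act]
      rw [ih m hr, ← h]
      exact hK _ hm

theorem step_sound {D : Set G} (h2 : ∀ p ∈ D, p * p = 1) (hg : ∀ s, g s ∈ D)
    (hcl : ∀ p ∈ D, ∀ q ∈ D, p * q * p ∈ D) (hbr : ∀ p ∈ D, ∀ q ∈ D, p * q * p = q * p * q)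
    {K : List (ℕ × ℕ)} (hK : ∀ e ∈ K, Valid g e) (st : Step) (hst : st.ok K = true) :
    Valid g st.entry := by
  have h2g : ∀ s, g s * g s = 1 := fun s => h2 _ (hg s)
  have hpt : ∀ i, pt g i ∈ D := fun i => act_mem hg hcl _ (hg _)
  cases st with
  | dfn s p =>
    simp only [Step.ok, decide_eq_true_eq] at hst
    show g s * pt g p * g s = pt g (T s p)
    rw [pt, pt, hst.1, hst.2]
    rfl
  | inv s i =>
    simp only [Step.ok, decide_eq_true_eq] at hst
    have h := hK _ hst.1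
    show g s * pt g i * g s = pt g (T s i)
    have h' : g s * pt g (T s i) * g s = pt g i := by
      have := h
      simp only [Valid, hst.2] at this
      exact this
    rw [← h']
    calc g s * (g s * pt g (T s i) * g s) * g s
        = (g s * g s) * pt g (T s i) * (g s * g s) := by group
      _ = pt g (T s i) := by rw [h2g, one_mul, mul_one]
  | fix s =>
    simp only [Step.ok, decide_eq_true_eq] at hst
    show g s * pt g s * g s = pt g (T s s)
    rw [hst.2.2, pt, hst.1, hst.2.1]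
    simp only [act]
    rw [h2g, one_mul]
  | comm t pf i k A B =>
    simp only [Step.ok, decide_eq_true_eq] at hst
    obtain ⟨hL, hB, hA⟩ := hst
    show g t * pt g pf * g t = pt g (T t pf)
    have h1 : act g (W k ++ W i) (pt g k) = pt g i := by
      rw [act_append, ← conj_pt, ← conj_pt, hbr _ (hpt i) _ (hpt k)]
      calc pt g k * (pt g k * pt g i * pt g k) * pt g k
          = (pt g k * pt g k) * pt g i * (pt g k * pt g k) := by group
        _ = pt g i := by rw [h2 _ (hpt k), one_mul, mul_one]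
    rw [hL, act_append] at h1
    simp only [act] at h1
    rw [run_sound hK B k pf hB] at h1
    have h3 := congrArg (act g A.reverse) h1
    rw [act_reverse_act h2g, run_sound hK _ _ _ hA] at h3
    exact h3

theorem checkAll_sound {D : Set G} (h2 : ∀ p ∈ D, p * p = 1) (hg : ∀ s, g s ∈ D)
    (hcl : ∀ p ∈ D, ∀ q ∈ D, p * q * p ∈ D) (hbr : ∀ p ∈ D, ∀ q ∈ D, p * q * p = q * p * q)
    (l : List Step) (K K' : List (ℕ × ℕ)) (hK : ∀ e ∈ K, Valid g e)
    (h : checkAll l K = some K') : ∀ e ∈ K', Valid g e := by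
  induction l generalizing K with
  | nil =>
    simp only [checkAll, Option.some.injEq] at h
    rw [← h]; exact hK
  | cons st rest ih =>
    simp only [checkAll] at h
    split_ifs at h with hst
    refine ih (st.entry :: K) ?_ h
    intro e he
    rcases List.mem_cons.mp he with rfl | he
    · exact step_sound h2 hg hcl hbr hK st hst
    · exact hK e he

theorem act_word_eq {D : Set G} (h2 : ∀ p ∈ D, p * p = 1) (hg : ∀ s, g s ∈ D)
    (hcl : ∀ p ∈ D, ∀ q ∈ D, p * q * p ∈ D) (hbr : ∀ p ∈ D, ∀ q ∈ D, p * q * p = q * p * q) :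
    act g [0, 1, 2, 3, 0, 1, 2, 3, 0, 1, 2, 3] (g 0) = g 0 := by
  have hf := finalCheck_eq
  unfold finalCheck at hf
  rcases hc : checkAll steps [] with _ | K
  · rw [hc] at hf; simp at hf
  · rw [hc] at hf
    simp only [decide_eq_true_eq] at hf
    have hK := checkAll_sound h2 hg hcl hbr steps [] K (by simp) hc
    exact run_sound hK _ 0 0 hf

end

/-- **Four point lemma.** -/
theorem four_point {G : Type*} [Group G] {D : Set G} (h2 : ∀ p ∈ D, p * p = 1)
    (hcl : ∀ p ∈ D, ∀ q ∈ D, p * q * p ∈ D) (hbr : ∀ p ∈ D, ∀ q ∈ D, p * q * p = q * p * q)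
    {a b c e : G} (ha : a ∈ D) (hb : b ∈ D) (hc : c ∈ D) (he : e ∈ D) :
    Commute ((a * b * c * e) ^ 3) a := by
  let g : ℕ → G := fun s => match s with
    | 0 => a
    | 1 => b
    | 2 => c
    | _ => e
  have hg : ∀ s, g s ∈ D := by
    intro s
    match s with
    | 0 => exact ha
    | 1 => exact hb
    | 2 => exact hc
    | (n + 3) => exact he
  have h := act_word_eq h2 hg hcl hbr
  simp only [act] at h
  change a * (b * (c * (e * (a * (b * (c * (e * (a * (b * (c * (e * a * e) * c) * b) * a) * e) * c)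
    * b) * a) * e) * c) * b) * a = a at h
  have hi : (a * b * c * e)⁻¹ = e * c * b * a := by
    rw [mul_inv_rev, mul_inv_rev, mul_inv_rev, inv_eq_of_mul_eq_one_left (h2 a ha),
      inv_eq_of_mul_eq_one_left (h2 b hb), inv_eq_of_mul_eq_one_left (h2 c hc),
      inv_eq_of_mul_eq_one_left (h2 e he)]
    group
  have h' : (a * b * c * e) ^ 3 * a * ((a * b * c * e) ^ 3)⁻¹ = a := by
    rw [← inv_pow, hi]
    refine Eq.trans ?_ h
    simp only [pow_succ, pow_zero, one_mul, mul_assoc]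
  show _ * a = a * _
  rw [mul_inv_eq_iff_eq_mul] at h'
  exact h'

end Cfsg.Agent.Lib.Helper89.W1
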